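import Groth.Agent.QuillenG.Milnor
import Mathlib.AlgebraicGeometry.AffineTransitionLimit
import Mathlib.Algebra.Polynomial.AlgebraMap
import Mathlib.Order.ULift

/-! Extending a morphism on `Spec L[U]` to `Spec Λ[U]` after scaling the variable. -/

set_option autoImplicit false
set_option backward.isDefEq.respectTransparency false
set_option backward.defeqAttrib.useBackward true
set_option linter.style.haveILetI false

universe u

open CategoryTheory CategoryTheory.Limits AlgebraicGeometry Polynomial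

namespace Groth.Agent.QuillenG

noncomputable section

variable {Λ L : Type u} [CommRing Λ] [CommRing L] [Algebra Λ L]

variable (Λ L) in
/-- Polynomials over `L` with constant term from `Λ`. -/
abbrev Pext : Subring (L[X] × Λ) := fib (Polynomial.evalRingHom (0 : L)) (algebraMap Λ L)

theorem eval0_surjective : Function.Surjective (Polynomial.evalRingHom (0 : L)) :=
  fun a => ⟨C a, by simp⟩

/-- Scaling of the variable by `c`. -/
def scale {R : Type u} [CommRing R] (c : R) : R[X] →+* R[X] := Polynomial.eval₂RingHom C (C c * X)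

@[simp] theorem scale_C {R : Type u} [CommRing R] (c a : R) : scale c (C a) = C a := by simp [scale]

@[simp] theorem scale_X {R : Type u} [CommRing R] (c : R) : scale c X = C c * X := by simp [scale]

theorem scale_scale {R : Type u} [CommRing R] (c d : R) :
    (scale c).comp (scale d) = scale (d * c) := by
  refine Polynomial.ringHom_ext (fun a => by simp) ?_
  simp [map_mul, mul_assoc]

theorem scale_one {R : Type u} [CommRing R] : scale (1 : R) = RingHom.id _ := by
  refine Polynomial.ringHom_ext (fun a => by simp) ?_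
  simp

theorem coeff_scale {R : Type u} [CommRing R] (c : R) (F : R[X]) (i : ℕ) :
    (scale c F).coeff i = c ^ i * F.coeff i := by
  induction F using Polynomial.induction_on' with
  | add p q hp hq => simp [hp, hq, mul_add]
  | monomial m a =>
    rw [← C_mul_X_pow_eq_monomial, map_mul, map_pow, scale_X, scale_C, mul_pow, ← C_pow, ← mul_assoc,
      ← C_mul, coeff_C_mul_X_pow, coeff_C_mul_X_pow]
    split
    · next h => subst h; ring
    · simp

theorem eval0_scale {R : Type u} [CommRing R] (c : R) :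
    (Polynomial.evalRingHom (0 : R)).comp (scale c) = Polynomial.evalRingHom 0 :=
  Polynomial.ringHom_ext (fun a => by simp) (by simp)

theorem mapRingHom_scale {R S : Type u} [CommRing R] [CommRing S] (φ : R →+* S) (c : R) :
    (Polynomial.mapRingHom φ).comp (scale c) = (scale (φ c)).comp (Polynomial.mapRingHom φ) :=
  Polynomial.ringHom_ext (fun a => by simp) (by simp)

variable (x : Λ) [IsLocalization.Away x L]

variable (L) in
/-- The map of the `n`-th copy of `Λ[U]`: `U ↦ U / x ^ n`. -/
def σ (n : ℕ) : Λ[X] →+* Pext Λ L :=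
  RingHom.codRestrict
    (((scale ((IsLocalization.Away.invSelf x : L) ^ n)).comp (Polynomial.mapRingHom (algebraMap Λ L))).prod
      (Polynomial.evalRingHom (0 : Λ))) _ fun F => by
    show Polynomial.evalRingHom (0 : L) (scale _ (Polynomial.map _ F)) = algebraMap Λ L (F.eval 0)
    rw [← RingHom.comp_apply (Polynomial.evalRingHom (0 : L)), eval0_scale]
    rw [Polynomial.coe_evalRingHom, ← Polynomial.coeff_zero_eq_eval_zero,
      ← Polynomial.coeff_zero_eq_eval_zero]
    exact Polynomial.coeff_map _ _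

theorem pB_σ (n : ℕ) :
    (pB _ _).comp (σ L x n) = (scale ((IsLocalization.Away.invSelf x : L) ^ n)).comp
      (Polynomial.mapRingHom (algebraMap Λ L)) := rfl

theorem pA_σ (n : ℕ) : (pA _ _).comp (σ L x n) = Polynomial.evalRingHom (0 : Λ) := rfl

theorem σ_scale {n m : ℕ} (h : n ≤ m) : (σ L x m).comp (scale (x ^ (m - n))) = σ L x n := by
  refine RingHom.ext fun F => Subtype.ext (Prod.ext ?_ ?_)
  · show scale _ (Polynomial.mapRingHom (algebraMap Λ L) (scale (x ^ (m - n)) F)) = scale _ _
    rw [← RingHom.comp_apply (Polynomial.mapRingHom (algebraMap Λ L)) (scale _), mapRingHom_scale,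
      RingHom.comp_apply, ← RingHom.comp_apply (scale _), scale_scale]
    congr 2
    rw [map_pow]
    obtain ⟨d, rfl⟩ := Nat.exists_eq_add_of_le h
    rw [Nat.add_sub_cancel_left, pow_add, mul_left_comm, ← mul_pow, IsLocalization.Away.mul_invSelf,
      one_pow, mul_one]
  · show (scale (x ^ (m - n)) F).eval 0 = F.eval 0
    exact congr($(eval0_scale (x ^ (m - n))) F)

theorem σ_surj (p : Pext Λ L) : ∃ (n : ℕ) (F : Λ[X]), σ L x n F = p := by
  classical
  obtain ⟨⟨f, a⟩, hp⟩ := p
  have hp' : f.coeff 0 = algebraMap Λ L a := by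
    rw [Polynomial.coeff_zero_eq_eval_zero]; exact hp
  obtain ⟨N, hN⟩ : ∃ N : ℕ, ∀ i ∈ f.support, ∃ b : Λ,
      algebraMap Λ L b = algebraMap Λ L (x ^ N) * f.coeff i := by
    obtain ⟨⟨_, N, rfl⟩, hN⟩ := IsLocalization.exist_integer_multiples (Submonoid.powers x) f.support f.coeff
    exact ⟨N, fun i hi => (hN i hi).imp fun b hb => by simpa [Algebra.smul_def] using hb⟩
  choose! b hb using hN
  let F : Λ[X] := C a + ∑ i ∈ f.support.filter (fun i => i ≠ 0), C (x ^ (i * N - N) * b i) * X ^ i
  refine ⟨N, F, Subtype.ext (Prod.ext (Polynomial.ext fun i => ?_) ?_)⟩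
  · show (scale _ (Polynomial.map (algebraMap Λ L) F)).coeff i = f.coeff i
    rw [coeff_scale, Polynomial.coeff_map]
    simp only [F, Polynomial.coeff_add, Polynomial.finsetSum_coeff, Polynomial.coeff_C,
      Polynomial.coeff_C_mul_X_pow, Finset.sum_ite_eq, Finset.mem_filter, Polynomial.mem_support_iff]
    by_cases hi : i = 0
    · subst hi; simp [hp']
    by_cases hfi : f.coeff i = 0
    · simp [hi, hfi]
    simp only [hfi, hi, not_false_eq_true, and_self, ne_eq, if_true, if_false, zero_add]
    have hle : N ≤ i * N := Nat.le_mul_of_pos_left _ (Nat.pos_of_ne_zero hi)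
    rw [map_mul, hb i (Polynomial.mem_support_iff.2 hfi), map_pow, map_pow, ← pow_mul,
      ← mul_assoc (algebraMap Λ L x ^ _), ← pow_add, Nat.sub_add_cancel hle, mul_comm N i,
      ← mul_assoc, ← mul_pow, mul_comm (IsLocalization.Away.invSelf x),
      IsLocalization.Away.mul_invSelf, one_pow, one_mul]
  · show Polynomial.eval 0 F = a
    simp only [F, Polynomial.eval_add, Polynomial.eval_finsetSum, Polynomial.eval_C_mul,
      Polynomial.eval_pow, Polynomial.eval_X, Polynomial.eval_C]
    rw [add_eq_left]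
    exact Finset.sum_eq_zero fun i hi => by simp [(Finset.mem_filter.1 hi).2]

theorem σ_eq_zero {n : ℕ} {F : Λ[X]} (h : σ L x n F = 0) :
    ∃ (m : ℕ) (_ : n ≤ m), scale (x ^ (m - n)) F = 0 := by
  classical
  have h0 : F.coeff 0 = 0 := by
    rw [Polynomial.coeff_zero_eq_eval_zero]
    exact congrArg (fun p : Pext Λ L => pA _ _ p) h
  have hL : ∀ i, algebraMap Λ L (F.coeff i) = 0 := by
    intro i
    have h1 : (scale ((IsLocalization.Away.invSelf x : L) ^ n)
        (Polynomial.map (algebraMap Λ L) F)).coeff i = 0 := by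
      rw [show scale _ (Polynomial.map (algebraMap Λ L) F) = 0 from congrArg (fun p : Pext Λ L => pB _ _ p) h]
      simp
    rw [coeff_scale, Polynomial.coeff_map] at h1
    refine (IsUnit.mul_right_eq_zero ?_).1 h1
    have hu : IsUnit (IsLocalization.Away.invSelf x : L) :=
      ⟨⟨IsLocalization.Away.invSelf x, algebraMap Λ L x,
        by rw [mul_comm, IsLocalization.Away.mul_invSelf], IsLocalization.Away.mul_invSelf x⟩, rfl⟩
    exact (hu.pow n).pow i
  obtain ⟨k, hk⟩ : ∃ k : ℕ, ∀ i ∈ F.support, x ^ k * F.coeff i = 0 := by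
    have h1 : ∀ i, ∃ k : ℕ, x ^ k * F.coeff i = 0 := fun i => by
      obtain ⟨⟨_, k, rfl⟩, hk⟩ := (IsLocalization.map_eq_zero_iff (Submonoid.powers x) L _).1 (hL i)
      exact ⟨k, hk⟩
    choose k hk using h1
    refine ⟨∑ i ∈ F.support, k i, fun i hi => ?_⟩
    obtain ⟨d, hd⟩ := Nat.exists_eq_add_of_le (Finset.single_le_sum (fun i _ => Nat.zero_le (k i)) hi)
    rw [hd, pow_add, mul_right_comm, hk, zero_mul]
  refine ⟨n + k, Nat.le_add_right _ _, Polynomial.ext fun i => ?_⟩
  rw [Nat.add_sub_cancel_left, coeff_scale, Polynomial.coeff_zero]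
  by_cases hi : i = 0
  · subst hi; rw [h0, mul_zero]
  by_cases hfi : F.coeff i = 0
  · rw [hfi, mul_zero]
  obtain ⟨d, rfl⟩ := Nat.exists_eq_add_of_le (Nat.pos_of_ne_zero hi)
  rw [pow_add, pow_one, mul_right_comm, hk _ (Polynomial.mem_support_iff.2 hfi), zero_mul]

variable (Λ) in
/-- The system of scalings. -/
def sys : ULift.{u} ℕ ⥤ CommRingCat.{u} where
  obj _ := CommRingCat.of Λ[X]
  map {n m} _ := CommRingCat.ofHom (scale (x ^ (m.down - n.down)))
  map_id n := by
    ext1
    simp [scale_one]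
  map_comp {n m k} f g := by
    ext1
    show scale _ = (scale _).comp (scale _)
    rw [scale_scale, ← pow_add]
    have h1 : n.down ≤ m.down := (leOfHom f : n ≤ m)
    have h2 : m.down ≤ k.down := (leOfHom g : m ≤ k)
    congr 2
    omega

variable (Λ L) in
/-- The cocone of the system of scalings. -/
def sysCocone : Cocone (sys Λ x) where
  pt := CommRingCat.of (Pext Λ L)
  ι :=
    { app := fun n => CommRingCat.ofHom (σ L x n.down)
      naturality := fun n m f => by
        ext1
        exact σ_scale x (show n.down ≤ m.down from (leOfHom f : n ≤ m)) }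

theorem isColimit_sysCocone : Nonempty (IsColimit (sysCocone Λ L x)) := by
  have : ReflectsFilteredColimits (forget CommRingCat.{u}) :=
    ⟨fun _ ↦ reflectsColimitsOfShape_of_reflectsIsomorphisms⟩
  refine ReflectsColimit.reflects (F := forget _) (Types.FilteredColimit.isColimitOf' _ _ ?_ ?_)
  · intro p
    obtain ⟨n, F, hF⟩ := σ_surj x (show Pext Λ L from p)
    exact ⟨⟨n⟩, F, hF.symm⟩
  · intro n F G e
    have h : σ L x n.down ((F : Λ[X]) - (G : Λ[X])) = 0 := by
      rw [map_sub, sub_eq_zero]; exact e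
    obtain ⟨m, hm, hz⟩ := σ_eq_zero x h
    refine ⟨⟨m⟩, homOfLE hm, ?_⟩
    rw [map_sub, sub_eq_zero] at hz
    exact hz

/-- A morphism on `Spec L[U]` whose restriction to `U = 0` comes from `Spec Λ` comes, after scaling
`U` by a power of `x`, from `Spec Λ[U]`. -/
theorem exists_scaled {R : Type u} [CommRing R] [Algebra R Λ] [Algebra R L] [IsScalarTower R Λ L]
    {G : Scheme.{u}} (q : G ⟶ Spec (CommRingCat.of R)) [LocallyOfFinitePresentation q]
    (hB : Spec (CommRingCat.of L[X]) ⟶ G)
    (hBq : hB ≫ q = Spec.map (CommRingCat.ofHom (algebraMap R L[X])))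
    (hA : Spec (CommRingCat.of Λ) ⟶ G)
    (hAq : hA ≫ q = Spec.map (CommRingCat.ofHom (algebraMap R Λ)))
    (h0 : Spec.map (CommRingCat.ofHom (Polynomial.evalRingHom (0 : L))) ≫ hB =
      Spec.map (CommRingCat.ofHom (algebraMap Λ L)) ≫ hA) :
    ∃ (N : ℕ) (h : Spec (CommRingCat.of Λ[X]) ⟶ G),
      h ≫ q = Spec.map (CommRingCat.ofHom (algebraMap R Λ[X])) ∧
      Spec.map (CommRingCat.ofHom (Polynomial.evalRingHom (0 : Λ))) ≫ h = hA ∧
      Spec.map (CommRingCat.ofHom (Polynomial.mapRingHom (algebraMap Λ L))) ≫ h =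
        Spec.map (CommRingCat.ofHom (scale (algebraMap Λ L x ^ N))) ≫ hB := by
  obtain ⟨hP, hPB, hPA⟩ := exists_hom eval0_surjective hB hA h0
  let D : (ULift.{u} ℕ)ᵒᵖ ⥤ Scheme.{u} := (sys Λ x).op ⋙ Scheme.Spec
  let c : Cone D := Scheme.Spec.mapCone (sysCocone Λ L x).op
  have hc : IsLimit c := isLimitOfPreserves Scheme.Spec (isColimit_sysCocone x).some.op
  let str : ∀ _ : (ULift.{u} ℕ)ᵒᵖ, Spec (CommRingCat.of Λ[X]) ⟶ Spec (CommRingCat.of R) :=
    fun _ => Spec.map (CommRingCat.ofHom (algebraMap R Λ[X]))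
  let t : D ⟶ (Functor.const _).obj (Spec (CommRingCat.of R)) :=
    { app := str
      naturality := fun n m f => by
        show Spec.map _ ≫ Spec.map _ = Spec.map _ ≫ 𝟙 _
        rw [Category.comp_id, ← Spec.map_comp]
        congr 1
        ext r
        show scale _ (algebraMap R Λ[X] r) = algebraMap R Λ[X] r
        rw [IsScalarTower.algebraMap_apply R Λ Λ[X], Polynomial.algebraMap_eq, scale_C] }
  haveI : ∀ n, IsAffine (D.obj n) := fun n => inferInstanceAs (IsAffine (Spec _))
  haveI : ∀ {n m} (f : n ⟶ m), IsAffineHom (D.map f) := fun f => inferInstance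
  have hover : ∀ n : ℕ, Spec.map (CommRingCat.ofHom (σ L x n)) ≫ str (.op ⟨n⟩) = hP ≫ q := by
    intro n
    obtain ⟨ψ, hψ⟩ := Spec.map_surjective (hP ≫ q)
    rw [← hψ, ← Spec.map_comp]
    congr 1
    have hb := congrArg (fun φ => Spec.map (CommRingCat.ofHom (pB (Polynomial.evalRingHom (0 : L))
      (algebraMap Λ L))) ≫ φ) hψ
    have ha := congrArg (fun φ => Spec.map (CommRingCat.ofHom (pA (Polynomial.evalRingHom (0 : L))
      (algebraMap Λ L))) ≫ φ) hψ
    simp only [← Spec.map_comp, reassoc_of% hPB, reassoc_of% hPA, hBq, hAq] at hb ha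
    have hb' := Spec.map_injective hb
    have ha' := Spec.map_injective ha
    refine CommRingCat.hom_ext (RingHom.ext fun r => Subtype.ext (Prod.ext ?_ ?_))
    · refine Eq.trans ?_ congr($hb' r).symm
      show scale _ (Polynomial.map (algebraMap Λ L) (algebraMap R Λ[X] r)) = algebraMap R L[X] r
      rw [IsScalarTower.algebraMap_apply R Λ Λ[X], IsScalarTower.algebraMap_apply R L L[X],
        Polynomial.algebraMap_eq, Polynomial.algebraMap_eq, Polynomial.map_C, scale_C,
        ← IsScalarTower.algebraMap_apply R Λ L]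
    · refine Eq.trans ?_ congr($ha' r).symm
      show Polynomial.eval 0 (algebraMap R Λ[X] r) = algebraMap R Λ r
      rw [IsScalarTower.algebraMap_apply R Λ Λ[X], Polynomial.algebraMap_eq, Polynomial.eval_C]
  have ha : c.π ≫ t = (Functor.const _).map (hP ≫ q) := by
    ext n : 2
    exact hover n.unop.down
  obtain ⟨⟨⟨N⟩⟩, h, hh, hhq⟩ := Scheme.exists_π_app_comp_eq_of_locallyOfFinitePresentation D t q c hc hP ha
  refine ⟨N, h, hhq, ?_, ?_⟩
  · rw [← hPA, ← hh]
    show Spec.map (CommRingCat.ofHom (Polynomial.evalRingHom (0 : Λ))) ≫ h =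
      Spec.map (CommRingCat.ofHom (pA (Polynomial.evalRingHom (0 : L)) (algebraMap Λ L))) ≫ Spec.map (CommRingCat.ofHom (σ L x N)) ≫ h
    rw [← Spec.map_comp_assoc, ← CommRingCat.ofHom_comp, pA_σ]
  · rw [← hPB, ← hh]
    show Spec.map (CommRingCat.ofHom (Polynomial.mapRingHom (algebraMap Λ L))) ≫ h =
      Spec.map (CommRingCat.ofHom (scale (algebraMap Λ L x ^ N))) ≫
        Spec.map (CommRingCat.ofHom (pB (Polynomial.evalRingHom (0 : L)) (algebraMap Λ L))) ≫ Spec.map (CommRingCat.ofHom (σ L x N)) ≫ h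
    rw [← Spec.map_comp_assoc, ← Spec.map_comp_assoc, ← CommRingCat.ofHom_comp, ← CommRingCat.ofHom_comp,
      RingHom.comp_assoc, pB_σ, ← RingHom.comp_assoc, scale_scale, ← mul_pow, mul_comm (IsLocalization.Away.invSelf x),
      IsLocalization.Away.mul_invSelf, one_pow, scale_one, RingHom.id_comp]

end

end Groth.Agent.QuillenG
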