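import Groth.Agent.QuillenG.Colim
import Mathlib.CategoryTheory.Monoidal.Cartesian.Grp
import Mathlib.CategoryTheory.Monoidal.Cartesian.Over
import Mathlib.RingTheory.Localization.Algebra
import Mathlib.RingTheory.Coprime.Lemmas

/-! Quillen's patching lemma for points of group schemes on polynomial rings. -/

set_option autoImplicit false
set_option backward.isDefEq.respectTransparency false
set_option backward.defeqAttrib.useBackward true
set_option linter.style.haveILetI false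

universe u

open CategoryTheory CategoryTheory.Limits AlgebraicGeometry Polynomial MonoidalCategory
  CartesianMonoidalCategory MonObj GrpObj

attribute [local instance] Polynomial.algebra Polynomial.isLocalization

namespace Groth.Agent.QuillenG

noncomputable section

variable {R : Type u} [CommRing R]

variable (R) in
/-- The spectrum of an algebra over the base. -/
abbrev ob (C : Type u) [CommRing C] [Algebra R C] : Over (Spec (CommRingCat.of R)) :=
  Over.mk (Spec.map (CommRingCat.ofHom (algebraMap R C)))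

/-- The morphism of spectra of an algebra map. -/
def pr {C D : Type u} [CommRing C] [Algebra R C] [CommRing D] [Algebra R D] (φ : C →ₐ[R] D) :
    ob R D ⟶ ob R C :=
  Over.homMk (Spec.map (CommRingCat.ofHom φ.toRingHom)) (by
    show Spec.map _ ≫ Spec.map _ = Spec.map _
    rw [← Spec.map_comp]; congr 1; ext r; exact φ.commutes r)

theorem pr_pr {C D E : Type u} [CommRing C] [Algebra R C] [CommRing D] [Algebra R D] [CommRing E]
    [Algebra R E] (φ : C →ₐ[R] D) (ψ : D →ₐ[R] E) : pr ψ ≫ pr φ = pr (ψ.comp φ) := by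
  ext1
  show Spec.map _ ≫ Spec.map _ = Spec.map _
  rw [← Spec.map_comp]; rfl

theorem pr_pr_assoc {C D E : Type u} [CommRing C] [Algebra R C] [CommRing D] [Algebra R D] [CommRing E]
    [Algebra R E] (φ : C →ₐ[R] D) (ψ : D →ₐ[R] E) {G : Over (Spec (CommRingCat.of R))}
    (g : ob R C ⟶ G) : pr ψ ≫ pr φ ≫ g = pr (ψ.comp φ) ≫ g := by rw [← Category.assoc, pr_pr]

theorem pr_id (C : Type u) [CommRing C] [Algebra R C] : pr (AlgHom.id R C) = 𝟙 (ob R C) := by
  ext1
  exact Spec.map_id _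

theorem algHom_ext' {C D : Type u} [CommRing C] [Algebra R C] [CommRing D] [Algebra R D]
    {f g : C[X] →ₐ[R] D} (hC : ∀ c, f (Polynomial.C c) = g (Polynomial.C c)) (hX : f X = g X) :
    f = g :=
  AlgHom.coe_ringHom_injective (Polynomial.ringHom_ext hC hX)

/-- Evaluation at an element. -/
def evₐ {C : Type u} [CommRing C] [Algebra R C] (c : C) : C[X] →ₐ[R] C :=
  (Polynomial.aeval (R := C) c).restrictScalars R

/-- The constants. -/
def Cₐ (C : Type u) [CommRing C] [Algebra R C] : C →ₐ[R] C[X] :=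
  IsScalarTower.toAlgHom R C C[X]

/-- Substitution. -/
def substₐ {C D : Type u} [CommRing C] [Algebra R C] [CommRing D] [Algebra R D] [Algebra C D]
    [IsScalarTower R C D] (d : D) : C[X] →ₐ[R] D :=
  (Polynomial.aeval (R := C) d).restrictScalars R

@[simp] theorem evₐ_C {C : Type u} [CommRing C] [Algebra R C] (c a : C) :
    evₐ (R := R) c (Polynomial.C a) = a := by simp [evₐ]

@[simp] theorem evₐ_X {C : Type u} [CommRing C] [Algebra R C] (c : C) :
    evₐ (R := R) c X = c := by simp [evₐ]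

@[simp] theorem Cₐ_apply {C : Type u} [CommRing C] [Algebra R C] (a : C) :
    Cₐ (R := R) C a = Polynomial.C a := rfl

variable {G : Over (Spec (CommRingCat.of R))} [GrpObj G] [LocallyOfFinitePresentation G.hom]

theorem exists_scaled_group {Λ L : Type u} [CommRing Λ] [CommRing L] [Algebra R Λ] [Algebra R L]
    [Algebra Λ L] [IsScalarTower R Λ L] (x : Λ) [IsLocalization.Away x L] (hB : ob R L[X] ⟶ G)
    (h0 : pr (evₐ (R := R) (0 : L)) ≫ hB = 1) :
    ∃ (N : ℕ) (h : ob R Λ[X] ⟶ G),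
      pr (Polynomial.mapAlgHom (IsScalarTower.toAlgHom R Λ L)) ≫ h =
        pr ((substₐ (R := R) (C (algebraMap Λ L x ^ N) * X) : L[X] →ₐ[R] L[X])) ≫ hB := by
  obtain ⟨N, h, hq, -, hh⟩ := exists_scaled (Λ := Λ) (L := L) x (R := R) G.hom hB.left (Over.w hB)
    (1 : ob R Λ ⟶ G).left (Over.w (1 : ob R Λ ⟶ G)) (by
      have h1 : pr (evₐ (R := R) (0 : L)) ≫ hB = pr (IsScalarTower.toAlgHom R Λ L) ≫ 1 := by
        rw [h0, MonObj.comp_one]
      have h2 := congrArg CommaMorphism.left h1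
      exact h2)
  refine ⟨N, Over.homMk h hq, ?_⟩
  ext1
  refine hh.trans ?_
  rfl

omit [LocallyOfFinitePresentation G.hom] in
theorem exists_normalised {A B : Type u} [CommRing A] [Algebra R A] [CommRing B] [Algebra R B]
    (φ : A →ₐ[R] B) (g₁ : ob R A[X] ⟶ G) (γ : ob R B[X] ⟶ G)
    (h : pr (Polynomial.mapAlgHom φ) ≫ g₁ = γ) (hγ : pr (evₐ (R := R) (0 : B)) ≫ γ = 1) :
    ∃ g : ob R A[X] ⟶ G, pr (evₐ (R := R) (0 : A)) ≫ g = 1 ∧ pr (Polynomial.mapAlgHom φ) ≫ g = γ := by
  refine ⟨g₁ * (pr ((Cₐ (R := R) A).comp (evₐ 0)) ≫ g₁)⁻¹, ?_, ?_⟩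
  · rw [MonObj.comp_mul, GrpObj.comp_inv, pr_pr_assoc,
      show (evₐ (R := R) (0 : A)).comp ((Cₐ A).comp (evₐ 0)) = evₐ 0 from
        algHom_ext' (by simp) (by simp), mul_inv_cancel]
  · rw [MonObj.comp_mul, GrpObj.comp_inv, pr_pr_assoc, h,
      show (Polynomial.mapAlgHom φ).comp ((Cₐ A).comp (evₐ (R := R) (0 : A))) =
          ((Cₐ B).comp (evₐ 0)).comp (Polynomial.mapAlgHom φ) from
        algHom_ext' (by simp) (by simp),
      ← pr_pr_assoc, h, ← pr_pr_assoc, hγ, MonObj.comp_one, _root_.inv_one, _root_.mul_one]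

theorem exists_piece {A B : Type u} [CommRing A] [CommRing B] [Algebra R A] [Algebra R B]
    [Algebra A B] [IsScalarTower R A B] (x : A) [IsLocalization.Away x B] (hB : ob R B[X][X] ⟶ G)
    (h0 : pr (evₐ (R := R) (0 : B[X])) ≫ hB = 1) :
    ∃ N : ℕ, ∀ e : R, ∃ g₁ : ob R A[X] ⟶ G,
      pr (Polynomial.mapAlgHom (IsScalarTower.toAlgHom R A B)) ≫ g₁ =
        pr (evₐ (R := R) (C (algebraMap A B x ^ N) * algebraMap R B[X] e : B[X])) ≫ hB := by
  haveI : IsScalarTower R A[X] B[X] := IsScalarTower.of_algebraMap_eq fun r => by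
    show algebraMap R B[X] r = Polynomial.mapRingHom (algebraMap A B) (algebraMap R A[X] r)
    rw [IsScalarTower.algebraMap_apply R A A[X], IsScalarTower.algebraMap_apply R B B[X]]
    simp [← IsScalarTower.algebraMap_apply]
  haveI : IsLocalization.Away (C x : A[X]) B[X] := by
    have h := Polynomial.isLocalization (S := Submonoid.powers x) B
    rwa [Submonoid.map_powers] at h
  have hx : algebraMap A[X] B[X] (C x) = C (algebraMap A B x) := by simp [Polynomial.algebraMap_def]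
  obtain ⟨N, h, hh⟩ := exists_scaled_group (Λ := A[X]) (L := B[X]) (C x) hB h0
  refine ⟨N, fun e => ⟨pr (evₐ (R := R) (algebraMap R A[X] e)) ≫ h, ?_⟩⟩
  rw [pr_pr_assoc, show (Polynomial.mapAlgHom (IsScalarTower.toAlgHom R A B)).comp
      (evₐ (R := R) (algebraMap R A[X] e)) = (evₐ (algebraMap R B[X] e)).comp
        (Polynomial.mapAlgHom (IsScalarTower.toAlgHom R A[X] B[X])) from
      algHom_ext' (fun c => by simp) (by simp [IsScalarTower.algebraMap_apply R A B]),
    ← pr_pr_assoc, hh, pr_pr_assoc]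
  congr 2
  refine algHom_ext' (fun c => ?_) ?_
  · simp [substₐ]
  · simp [substₐ]

theorem quillen (r r' : R) (hrr : Ideal.span ({r, r'} : Set R) = ⊤) {A A' B : Type u} [CommRing A]
    [CommRing A'] [CommRing B] [Algebra R A] [Algebra R A'] [Algebra R B] [Algebra A B] [Algebra A' B]
    [IsScalarTower R A B] [IsScalarTower R A' B] [IsLocalization.Away (algebraMap R A r') B]
    [IsLocalization.Away (algebraMap R A' r) B] (g : ob R B[X] ⟶ G)
    (hg : pr (evₐ (R := R) (0 : B)) ≫ g = 1) :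
    ∃ (g₁ : ob R A[X] ⟶ G) (g₂ : ob R A'[X] ⟶ G),
      pr (evₐ (R := R) (0 : A)) ≫ g₁ = 1 ∧ pr (evₐ (R := R) (0 : A')) ≫ g₂ = 1 ∧
      g = (pr (Polynomial.mapAlgHom (IsScalarTower.toAlgHom R A B)) ≫ g₁) *
        (pr (Polynomial.mapAlgHom (IsScalarTower.toAlgHom R A' B)) ≫ g₂) := by
  let ψ₁ : B[X] →ₐ[R] B[X][X] := substₐ (C X * X)
  let ψ₂ : B[X] →ₐ[R] B[X][X] := substₐ (C X * (1 - X))
  let hB₂ : ob R B[X][X] ⟶ G := (pr ψ₂ ≫ g)⁻¹ * (pr (Cₐ B[X]) ≫ g)
  obtain ⟨N₁, h₁⟩ := exists_piece (algebraMap R A r') (pr ψ₁ ≫ g) (by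
    rw [pr_pr_assoc, show (evₐ (R := R) (0 : B[X])).comp ψ₁ = (Cₐ B).comp (evₐ 0) from
      algHom_ext' (fun c => by simp [ψ₁, substₐ]) (by simp [ψ₁, substₐ]),
      ← pr_pr_assoc, hg, MonObj.comp_one])
  obtain ⟨N₂, h₂⟩ := exists_piece (algebraMap R A' r) hB₂ (by
    rw [MonObj.comp_mul, GrpObj.comp_inv, pr_pr_assoc, pr_pr_assoc,
      show (evₐ (R := R) (0 : B[X])).comp ψ₂ = AlgHom.id R B[X] from
        algHom_ext' (fun c => by simp [ψ₂, substₐ]) (by simp [ψ₂, substₐ]),
      show (evₐ (R := R) (0 : B[X])).comp (Cₐ B[X]) = AlgHom.id R B[X] from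
        algHom_ext' (fun c => by simp) (by simp), inv_mul_cancel])
  obtain ⟨e, b, heb⟩ : IsCoprime (r' ^ N₁) (r ^ N₂) := by
    have h : IsCoprime r r' := by
      rw [← Ideal.isCoprime_span_singleton_iff, Ideal.isCoprime_iff_sup_eq, ← Ideal.span_union]
      exact hrr
    exact h.symm.pow
  let c : R := e * r' ^ N₁
  let σc : B[X] →ₐ[R] B[X] := substₐ (C (algebraMap R B c) * X)
  obtain ⟨g₁, hg₁⟩ := h₁ e
  obtain ⟨g₂, hg₂⟩ := h₂ b
  have e₁ : pr (Polynomial.mapAlgHom (IsScalarTower.toAlgHom R A B)) ≫ g₁ = pr σc ≫ g := by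
    rw [hg₁, pr_pr_assoc]
    congr 2
    refine algHom_ext' (fun c => by simp [ψ₁, σc, substₐ]) ?_
    simp [ψ₁, σc, c, substₐ, ← IsScalarTower.algebraMap_apply, IsScalarTower.algebraMap_apply R B B[X]]
    ring
  have hc : algebraMap R B c = 1 - algebraMap R B r ^ N₂ * algebraMap R B b := by
    have := congrArg (algebraMap R B) heb
    simp only [map_add, map_mul, map_pow, map_one] at this
    simp only [c, map_mul, map_pow]
    linear_combination this
  have e₂ : pr (Polynomial.mapAlgHom (IsScalarTower.toAlgHom R A' B)) ≫ g₂ = (pr σc ≫ g)⁻¹ * g := by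
    rw [hg₂, MonObj.comp_mul, GrpObj.comp_inv, pr_pr_assoc, pr_pr_assoc]
    congr 1
    · congr 3
      refine algHom_ext' (fun c => by simp [ψ₂, σc, substₐ]) ?_
      simp [ψ₂, σc, substₐ, ← IsScalarTower.algebraMap_apply, hc,
        IsScalarTower.algebraMap_apply R B B[X]]
      ring
    · rw [show (evₐ (R := R) _).comp (Cₐ B[X]) = AlgHom.id R B[X] from
        algHom_ext' (fun c => by simp) (by simp), pr_id, Category.id_comp]
  have hσ : pr (evₐ (R := R) (0 : B)) ≫ pr σc ≫ g = 1 := by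
    rw [pr_pr_assoc, show (evₐ (R := R) (0 : B)).comp σc = evₐ 0 from
      algHom_ext' (fun c => by simp [σc, substₐ]) (by simp [σc, substₐ]), hg]
  obtain ⟨g₁', h₁0, h₁γ⟩ := exists_normalised _ g₁ _ e₁ hσ
  obtain ⟨g₂', h₂0, h₂γ⟩ := exists_normalised _ g₂ _ e₂ (by
    rw [MonObj.comp_mul, GrpObj.comp_inv, hσ, hg, _root_.inv_one, _root_.mul_one])
  exact ⟨g₁', g₂', h₁0, h₂0, by rw [h₁γ, h₂γ, mul_inv_cancel_left]⟩

end

end Groth.Agent.QuillenG
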