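import Mathlib.AlgebraicGeometry.AffineScheme
import Mathlib.AlgebraicGeometry.Gluing
import Mathlib.AlgebraicGeometry.Cover.Open
import Mathlib.RingTheory.Localization.Away.Basic

/-! Morphisms out of the spectrum of a Milnor square. -/

set_option autoImplicit false
set_option backward.isDefEq.respectTransparency false
set_option linter.style.haveILetI false

universe u

open CategoryTheory CategoryTheory.Limits AlgebraicGeometry

namespace Groth.Agent.QuillenG

noncomputable section

variable {B A C : Type u} [CommRing B] [CommRing A] [CommRing C] (f : B →+* C) (g : A →+* C)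

/-- The fibre product of rings. -/
def fib : Subring (B × A) := RingHom.eqLocus (f.comp (RingHom.fst B A)) (g.comp (RingHom.snd B A))

/-- First projection. -/
def pB : fib f g →+* B := (RingHom.fst B A).comp (fib f g).subtype

/-- Second projection. -/
def pA : fib f g →+* A := (RingHom.snd B A).comp (fib f g).subtype

variable {f g}

theorem fib_eq (p : fib f g) : f (pB f g p) = g (pA f g p) := p.2

theorem pB_mk (b : B) (a : A) (h : f b = g a) : pB f g ⟨(b, a), h⟩ = b := rfl

theorem pA_mk (b : B) (a : A) (h : f b = g a) : pA f g ⟨(b, a), h⟩ = a := rfl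

variable (hf : Function.Surjective f)

include hf

theorem pA_surjective : Function.Surjective (pA f g) := fun a => by
  obtain ⟨b, hb⟩ := hf (g a)
  exact ⟨⟨(b, a), hb⟩, rfl⟩

/-- The two parts cover the spectrum. -/
theorem exists_point (p : PrimeSpectrum (fib f g)) :
    (∃ b : PrimeSpectrum B, (∃ k ∈ RingHom.ker f, k ∉ b.asIdeal) ∧ b.comap (pB f g) = p) ∨
      ∃ a : PrimeSpectrum A, a.comap (pA f g) = p := by
  have trn : ∀ {x y : fib f g}, x ∈ p.asIdeal → (x : B × A) = y → y ∈ p.asIdeal :=
    fun hx he => Subtype.ext he ▸ hx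
  by_cases h : ∃ (k : B) (hk : f k = g 0), (⟨(k, 0), hk⟩ : fib f g) ∉ p.asIdeal
  · obtain ⟨k, hk, hkp⟩ := h
    have hk' : f k = 0 := by simpa using hk
    have hmem : ∀ b : B, f (k * b) = g 0 := fun b => by simp [hk']
    let I : Ideal B :=
      { carrier := {b | (⟨(k * b, 0), hmem b⟩ : fib f g) ∈ p.asIdeal}
        add_mem' := fun {x y} hx hy =>
          trn (p.asIdeal.add_mem hx hy) (Prod.ext (mul_add _ _ _).symm (add_zero _))
        zero_mem' := trn p.asIdeal.zero_mem (Prod.ext (mul_zero _).symm rfl)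
        smul_mem' := fun c x hx => (p.2.mem_or_mem (x := ⟨(k, 0), hk⟩) (y := ⟨(k * (c * x), 0), hmem _⟩)
            (trn (p.asIdeal.mul_mem_left ⟨(k * c, 0), hmem c⟩ hx)
              (Prod.ext (by show k * c * (k * x) = k * (k * (c * x)); ring) rfl))).resolve_left hkp }
    have hI : I.IsPrime := by
      refine ⟨fun h => hkp ?_, fun {x y} hxy => ?_⟩
      · have h1 : (1 : B) ∈ I := h ▸ Submodule.mem_top
        exact trn h1 (Prod.ext (mul_one _) rfl)
      · exact p.2.mem_or_mem (x := ⟨(k * x, 0), hmem x⟩) (y := ⟨(k * y, 0), hmem y⟩)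
          (trn (p.asIdeal.mul_mem_left ⟨(k, 0), hk⟩ hxy)
            (Prod.ext (by show k * (k * (x * y)) = k * x * (k * y); ring) rfl))
    refine Or.inl ⟨⟨I, hI⟩, ⟨k, hk', fun hkI => ?_⟩, PrimeSpectrum.ext (Ideal.ext fun π => ?_)⟩
    · exact hkp ((p.2.mem_or_mem (x := ⟨(k, 0), hk⟩) (y := ⟨(k, 0), hk⟩)
        (trn hkI (Prod.ext rfl (mul_zero _).symm))).elim id id)
    · have e : (⟨(k * pB f g π, 0), hmem _⟩ : fib f g) = ⟨(k, 0), hk⟩ * π :=
        Subtype.ext (Prod.ext rfl (zero_mul _).symm)
      show (⟨(k * pB f g π, 0), hmem _⟩ : fib f g) ∈ p.asIdeal ↔ π ∈ p.asIdeal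
      rw [e]
      exact ⟨fun h => (p.2.mem_or_mem h).resolve_left hkp, fun h => p.asIdeal.mul_mem_left _ h⟩
  · push Not at h
    have hker : RingHom.ker (pA f g) ≤ p.asIdeal := by
      rintro ⟨⟨b, a⟩, hba⟩ hπ
      obtain rfl : a = 0 := hπ
      exact h b hba
    haveI := Ideal.map_isPrime_of_surjective (pA_surjective (g := g) hf) hker
    refine Or.inr ⟨⟨p.asIdeal.map (pA f g), inferInstance⟩, PrimeSpectrum.ext ?_⟩
    show Ideal.comap _ (Ideal.map _ _) = _
    rw [Ideal.comap_map_of_surjective _ (pA_surjective (g := g) hf), sup_eq_left]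
    rwa [← RingHom.ker_eq_comap_bot]

variable (π : fib f g)

/-- The localised first projection. -/
def βB : Localization.Away π →+* Localization.Away (pB f g π) :=
  IsLocalization.Away.lift π (g := (algebraMap B (Localization.Away (pB f g π))).comp (pB f g))
    (IsLocalization.Away.algebraMap_isUnit (pB f g π))

/-- The localised second projection. -/
def βA : Localization.Away π →+* Localization.Away (pA f g π) :=
  IsLocalization.Away.lift π (g := (algebraMap A (Localization.Away (pA f g π))).comp (pA f g))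
    (IsLocalization.Away.algebraMap_isUnit (pA f g π))

omit hf in
theorem βB_algebraMap (p : fib f g) :
    βB π (algebraMap _ (Localization.Away π) p) = algebraMap B _ (pB f g p) :=
  IsLocalization.Away.lift_eq π _ p

omit hf in
theorem βA_algebraMap (p : fib f g) :
    βA π (algebraMap _ (Localization.Away π) p) = algebraMap A _ (pA f g p) :=
  IsLocalization.Away.lift_eq π _ p

omit hf in
theorem β_injective {x y : Localization.Away π} (hB : βB π x = βB π y) (hA : βA π x = βA π y) :
    x = y := by
  obtain ⟨⟨x, ⟨_, n, rfl⟩⟩, hx⟩ := IsLocalization.surj (Submonoid.powers π) x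
  obtain ⟨⟨y, ⟨_, m, rfl⟩⟩, hy⟩ := IsLocalization.surj (Submonoid.powers π) y
  simp only [] at hx hy
  have hu : IsUnit (algebraMap (fib f g) (Localization.Away π) (π ^ n * π ^ m)) := by
    rw [← pow_add, map_pow]
    exact (IsLocalization.Away.algebraMap_isUnit π).pow _
  refine hu.mul_left_inj.1 ?_
  rw [map_mul, ← mul_assoc, hx, ← map_mul, mul_comm (algebraMap _ _ (π ^ n)) _, ← mul_assoc, hy,
    ← map_mul]
  have eB : algebraMap B (Localization.Away (pB f g π)) (pB f g (x * π ^ m)) =
      algebraMap B _ (pB f g (y * π ^ n)) := by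
    rw [← βB_algebraMap, ← βB_algebraMap]
    simp only [map_mul, ← hx, ← hy, hB]; ring
  have eA : algebraMap A (Localization.Away (pA f g π)) (pA f g (x * π ^ m)) =
      algebraMap A _ (pA f g (y * π ^ n)) := by
    rw [← βA_algebraMap, ← βA_algebraMap]
    simp only [map_mul, ← hx, ← hy, hA]; ring
  obtain ⟨⟨_, k, rfl⟩, hk⟩ := (IsLocalization.eq_iff_exists (Submonoid.powers (pB f g π)) _).1 eB
  obtain ⟨⟨_, l, rfl⟩, hl⟩ := (IsLocalization.eq_iff_exists (Submonoid.powers (pA f g π)) _).1 eA
  refine (IsLocalization.eq_iff_exists (Submonoid.powers π) _).2 ⟨⟨π ^ (k + l), k + l, rfl⟩, ?_⟩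
  simp only [] at hk hl ⊢
  refine Subtype.ext (Prod.ext ?_ ?_)
  · show pB f g (π ^ (k + l) * (x * π ^ m)) = pB f g (π ^ (k + l) * (y * π ^ n))
    rw [map_mul, map_mul _ (π ^ (k + l)) (y * π ^ n), map_pow, pow_add,
      mul_comm (pB f g π ^ k), mul_assoc, hk, ← mul_assoc]
  · show pA f g (π ^ (k + l) * (x * π ^ m)) = pA f g (π ^ (k + l) * (y * π ^ n))
    rw [map_mul, map_mul _ (π ^ (k + l)) (y * π ^ n), map_pow, pow_add, mul_assoc, hl, ← mul_assoc]

variable (f g) in
/-- Compatibility of sections over the two parts. -/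
def Compatible (π : fib f g) (x : Localization.Away (pB f g π)) (y : Localization.Away (pA f g π)) :
    Prop :=
  IsLocalization.Away.lift (pB f g π)
      (g := (algebraMap C (Localization.Away (f (pB f g π)))).comp f)
      (by show IsUnit (algebraMap C (Localization.Away (f (pB f g π))) (f (pB f g π)))
          exact IsLocalization.Away.algebraMap_isUnit _) x =
    IsLocalization.Away.lift (pA f g π)
      (g := (algebraMap C (Localization.Away (f (pB f g π)))).comp g)
      (by simpa [fib_eq π] using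
        IsLocalization.Away.algebraMap_isUnit (S := Localization.Away (f (pB f g π))) (f (pB f g π))) y

omit hf in
theorem exists_β_eq {x : Localization.Away (pB f g π)} {y : Localization.Away (pA f g π)}
    (h : Compatible f g π x y) : ∃ z : Localization.Away π, βB π z = x ∧ βA π z = y := by
  obtain ⟨⟨b, ⟨_, n, rfl⟩⟩, hb⟩ := IsLocalization.surj (Submonoid.powers (pB f g π)) x
  obtain ⟨⟨a, ⟨_, m, rfl⟩⟩, ha⟩ := IsLocalization.surj (Submonoid.powers (pA f g π)) y
  simp only [map_pow] at hb ha
  let c := f (pB f g π)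
  have hc : c = g (pA f g π) := fib_eq π
  have e : algebraMap C (Localization.Away c) (f (b * pB f g π ^ m)) =
      algebraMap C _ (g (a * pA f g π ^ n)) := by
    have e1 := congrArg (IsLocalization.Away.lift (pB f g π)
      (g := (algebraMap C (Localization.Away c)).comp f)
      (by show IsUnit (algebraMap C (Localization.Away c) c)
          exact IsLocalization.Away.algebraMap_isUnit _)) hb
    have e2 := congrArg (IsLocalization.Away.lift (pA f g π)
      (g := (algebraMap C (Localization.Away c)).comp g)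
      (by simpa [← hc] using
        IsLocalization.Away.algebraMap_isUnit (S := Localization.Away c) c)) ha
    simp only [map_mul, map_pow, IsLocalization.Away.lift_eq, RingHom.comp_apply] at e1 e2
    rw [map_mul, map_mul, map_mul, map_mul, map_pow, map_pow, map_pow, map_pow, ← e1, ← e2]
    simp only [← fib_eq π]
    unfold Compatible at h
    rw [h]; ring
  obtain ⟨⟨_, k, rfl⟩, hk⟩ := (IsLocalization.eq_iff_exists (Submonoid.powers c) _).1 e
  simp only [] at hk
  have hmem : f (b * pB f g π ^ (m + k)) = g (a * pA f g π ^ (n + k)) := by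
    rw [map_mul, map_pow, map_mul, map_pow, pow_add, pow_add, ← hc]
    rw [map_mul, map_pow, map_mul, map_pow, ← hc] at hk
    linear_combination hk
  obtain ⟨N, hNB, hNA⟩ : ∃ N : fib f g, pB f g N = b * pB f g π ^ (m + k) ∧
      pA f g N = a * pA f g π ^ (n + k) := ⟨⟨(_, _), hmem⟩, rfl, rfl⟩
  refine ⟨IsLocalization.mk' (Localization.Away π) N
    (⟨π ^ (n + m + k), n + m + k, rfl⟩ : Submonoid.powers π), ?_, ?_⟩
  · have hu := (IsLocalization.Away.algebraMap_isUnit (S := Localization.Away (pB f g π))
      (pB f g π)).pow (n + m + k)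
    refine hu.mul_left_inj.1 ?_
    rw [← map_pow, ← map_pow, ← βB_algebraMap, ← map_mul, IsLocalization.mk'_spec, βB_algebraMap,
      βB_algebraMap, hNB, map_mul, map_pow, map_pow, map_pow, ← hb]
    ring
  · have hu := (IsLocalization.Away.algebraMap_isUnit (S := Localization.Away (pA f g π))
      (pA f g π)).pow (n + m + k)
    refine hu.mul_left_inj.1 ?_
    rw [← map_pow, ← map_pow, ← βA_algebraMap, ← map_mul, IsLocalization.mk'_spec, βA_algebraMap,
      βA_algebraMap, hNA, map_mul, map_pow, map_pow, map_pow, ← ha]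
    ring

/-- Points of a basic open of the spectrum come from the two parts. -/
theorem exists_point_away (v : Spec (CommRingCat.of (Localization.Away π))) :
    (∃ b, Spec.map (CommRingCat.ofHom (βB π)) b = v) ∨
      ∃ a, Spec.map (CommRingCat.ofHom (βA π)) a = v := by
  have hv : π ∉ (PrimeSpectrum.comap (algebraMap (fib f g) (Localization.Away π)) v).asIdeal :=
    fun h => v.2.ne_top (Ideal.eq_top_of_isUnit_mem _ h (IsLocalization.Away.algebraMap_isUnit π))
  have hinj := PrimeSpectrum.localization_comap_injective (Localization.Away π) (Submonoid.powers π)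
  rcases exists_point hf (PrimeSpectrum.comap (algebraMap (fib f g) (Localization.Away π)) v) with
    ⟨b, -, hb⟩ | ⟨a, ha⟩
  · have hjb : pB f g π ∉ b.asIdeal := fun h => hv (by rw [← hb]; exact h)
    obtain ⟨b', hb'⟩ : b ∈ Set.range (PrimeSpectrum.comap
        (algebraMap B (Localization.Away (pB f g π)))) := by
      rw [PrimeSpectrum.localization_away_comap_range _ (pB f g π)]
      exact hjb
    refine Or.inl ⟨b', hinj ?_⟩
    rw [← hb, ← hb']
    refine PrimeSpectrum.ext (Ideal.ext fun p => ?_)
    show βB π (algebraMap _ _ p) ∈ b'.asIdeal ↔ algebraMap B _ (pB f g p) ∈ b'.asIdeal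
    rw [βB_algebraMap]
  · have hja : pA f g π ∉ a.asIdeal := fun h => hv (by rw [← ha]; exact h)
    obtain ⟨a', ha'⟩ : a ∈ Set.range (PrimeSpectrum.comap
        (algebraMap A (Localization.Away (pA f g π)))) := by
      rw [PrimeSpectrum.localization_away_comap_range _ (pA f g π)]
      exact hja
    refine Or.inr ⟨a', hinj ?_⟩
    rw [← ha, ← ha']
    refine PrimeSpectrum.ext (Ideal.ext fun p => ?_)
    show βA π (algebraMap _ _ p) ∈ a'.asIdeal ↔ algebraMap A _ (pA f g p) ∈ a'.asIdeal
    rw [βA_algebraMap]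

omit hf in
theorem hom_ext_affine {X : Scheme.{u}} {W : X.Opens} (hW : IsAffineOpen W)
    (m m' : Spec (CommRingCat.of (Localization.Away π)) ⟶ X)
    (hm : ∀ v, m v ∈ W) (hm' : ∀ v, m' v ∈ W)
    (hB : Spec.map (CommRingCat.ofHom (βB π)) ≫ m = Spec.map (CommRingCat.ofHom (βB π)) ≫ m')
    (hA : Spec.map (CommRingCat.ofHom (βA π)) ≫ m = Spec.map (CommRingCat.ofHom (βA π)) ≫ m') :
    m = m' := by
  have key : ∀ n : Spec (CommRingCat.of (Localization.Away π)) ⟶ X, (∀ v, n v ∈ W) →
      ∃ ψ : Γ(X, W) ⟶ CommRingCat.of (Localization.Away π), Spec.map ψ ≫ hW.fromSpec = n := by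
    intro n hn
    refine ⟨Spec.preimage (IsOpenImmersion.lift hW.fromSpec n ?_), ?_⟩
    · rw [hW.range_fromSpec]; rintro _ ⟨v, rfl⟩; exact hn v
    · rw [Spec.map_preimage, IsOpenImmersion.lift_fac]
  obtain ⟨ψ, rfl⟩ := key m hm
  obtain ⟨ψ', rfl⟩ := key m' hm'
  rw [← Category.assoc, ← Category.assoc, cancel_mono, ← Spec.map_comp, ← Spec.map_comp] at hB hA
  have hB' := Spec.map_injective hB
  have hA' := Spec.map_injective hA
  congr 2
  ext s
  exact β_injective π (congr($hB' s)) (congr($hA' s))

omit hf in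
theorem range_away {R : Type u} [CommRing R] (x : R) :
    Set.range (Spec.map (CommRingCat.ofHom (algebraMap R (Localization.Away x)))) =
      ((PrimeSpectrum.basicOpen x : TopologicalSpace.Opens (PrimeSpectrum R)) : Set (PrimeSpectrum R)) :=
  PrimeSpectrum.localization_away_comap_range (Localization.Away x) x

/-- Morphisms on the two parts which agree on the common part come from the fibre product. -/
theorem exists_hom {X : Scheme.{u}} (hB : Spec (CommRingCat.of B) ⟶ X) (hA : Spec (CommRingCat.of A) ⟶ X)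
    (hC : Spec.map (CommRingCat.ofHom f) ≫ hB = Spec.map (CommRingCat.ofHom g) ≫ hA) :
    ∃ m : Spec (CommRingCat.of (fib f g)) ⟶ X,
      Spec.map (CommRingCat.ofHom (pB f g)) ≫ m = hB ∧ Spec.map (CommRingCat.ofHom (pA f g)) ≫ m = hA := by
  classical
  have hCpt : ∀ q : PrimeSpectrum C, hB (q.comap f) = hA (q.comap g) := fun q => congr($hC q)
  let ι := {π : fib f g // ∃ W : X.Opens, IsAffineOpen W ∧
    (∀ b : PrimeSpectrum B, pB f g π ∉ b.asIdeal → hB b ∈ W) ∧
    (∀ a : PrimeSpectrum A, pA f g π ∉ a.asIdeal → hA a ∈ W)}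
  have hspan : Ideal.span (Set.range fun π : ι => π.1) = ⊤ := by
    by_contra hne
    obtain ⟨p, hp, hpI⟩ := Ideal.exists_le_maximal _ hne
    suffices ∃ π : ι, π.1 ∉ p by
      obtain ⟨π, hπ⟩ := this
      exact hπ (hpI (Ideal.subset_span ⟨π, rfl⟩))
    rcases exists_point hf ⟨p, hp.isPrime⟩ with ⟨b, ⟨k, hk, hkb⟩, hb⟩ | ⟨a, ha⟩
    · obtain ⟨_, ⟨W, hW, rfl⟩, hxW, -⟩ :=
        X.isBasis_affineOpens.exists_subset_of_mem_open (Set.mem_univ (hB b)) isOpen_univ
      obtain ⟨_, ⟨f0, rfl⟩, hbf, hfW⟩ := PrimeSpectrum.isTopologicalBasis_basic_opens.exists_subset_of_mem_open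
        (show b ∈ (hB ⁻¹ᵁ W).1 from hxW) (hB ⁻¹ᵁ W).2
      have hmem : f (k * f0) = g 0 := by simp [RingHom.mem_ker.1 hk]
      refine ⟨⟨⟨(k * f0, 0), hmem⟩, W, hW, fun b' hb' => ?_, fun a' ha' => absurd a'.asIdeal.zero_mem ha'⟩, ?_⟩
      · exact hfW (show f0 ∉ b'.asIdeal from fun h => hb' (b'.asIdeal.mul_mem_left _ h))
      · intro h
        have h' : (⟨(k * f0, 0), hmem⟩ : fib f g) ∈ (b.comap (pB f g)).asIdeal := by rw [hb]; exact h
        exact (b.2.mem_or_mem (h' : k * f0 ∈ b.asIdeal)).elim hkb hbf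
    · obtain ⟨_, ⟨W, hW, rfl⟩, hxW, -⟩ :=
        X.isBasis_affineOpens.exists_subset_of_mem_open (Set.mem_univ (hA a)) isOpen_univ
      obtain ⟨_, ⟨a0, rfl⟩, haa, haW⟩ := PrimeSpectrum.isTopologicalBasis_basic_opens.exists_subset_of_mem_open
        (show a ∈ (hA ⁻¹ᵁ W).1 from hxW) (hA ⁻¹ᵁ W).2
      let J := PrimeSpectrum.vanishingIdeal ((hB ⁻¹ᵁ W).1)ᶜ
      have hJ : PrimeSpectrum.zeroLocus (J : Set B) = ((hB ⁻¹ᵁ W).1)ᶜ := by
        rw [PrimeSpectrum.zeroLocus_vanishingIdeal_eq_closure,
          (hB ⁻¹ᵁ W).2.isClosed_compl.closure_eq]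
      have hrad : g a0 ∈ (J.map f).radical := by
        rw [Ideal.radical_eq_sInf, Ideal.mem_sInf]
        rintro c ⟨hc, hcp⟩
        by_contra hac
        have h1 : hA (PrimeSpectrum.comap g ⟨c, hcp⟩) ∈ W := haW hac
        rw [← hCpt] at h1
        have h2 : PrimeSpectrum.comap f ⟨c, hcp⟩ ∈ PrimeSpectrum.zeroLocus (J : Set B) :=
          (PrimeSpectrum.mem_zeroLocus _ _).2 fun x hx => hc (Ideal.mem_map_of_mem f hx)
        rw [hJ] at h2
        exact h2 h1
      obtain ⟨n, hn⟩ := hrad
      replace hn : g a0 ^ (n + 1) ∈ J.map f := by rw [pow_succ]; exact Ideal.mul_mem_right _ _ hn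
      obtain ⟨b0, hb0, hb0f⟩ := (Ideal.mem_map_iff_of_surjective f hf).1 hn
      have hmem : f b0 = g (a0 ^ (n + 1)) := by rw [map_pow]; exact hb0f
      refine ⟨⟨⟨(b0, a0 ^ (n + 1)), hmem⟩, W, hW, fun b' hb' => ?_, fun a' ha' => ?_⟩, ?_⟩
      · by_contra h
        have h2 : b' ∈ PrimeSpectrum.zeroLocus (J : Set B) := by rw [hJ]; exact h
        exact hb' (h2 hb0)
      · exact haW (show a0 ∉ a'.asIdeal from fun h => ha' (Ideal.pow_mem_of_mem _ h _ (Nat.succ_pos n)))
      · intro h
        have h' : (⟨(b0, a0 ^ (n + 1)), hmem⟩ : fib f g) ∈ (a.comap (pA f g)).asIdeal := by rw [ha]; exact h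
        exact haa (a.2.mem_of_pow_mem (n + 1) h')
  -- the charts
  have hchart : ∀ π : ι, ∃ m : Spec (CommRingCat.of (Localization.Away π.1)) ⟶ X,
      Spec.map (CommRingCat.ofHom (βB π.1)) ≫ m =
        Spec.map (CommRingCat.ofHom (algebraMap B (Localization.Away (pB f g π.1)))) ≫ hB ∧
      Spec.map (CommRingCat.ofHom (βA π.1)) ≫ m =
        Spec.map (CommRingCat.ofHom (algebraMap A (Localization.Away (pA f g π.1)))) ≫ hA := by
    rintro ⟨π, W, hW, hWB, hWA⟩
    have fac : ∀ (R : CommRingCat.{u}) (n : Spec R ⟶ X), (∀ v, n v ∈ W) →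
        ∃ ψ : Γ(X, W) ⟶ R, Spec.map ψ ≫ hW.fromSpec = n := by
      intro R n hn
      refine ⟨Spec.preimage (IsOpenImmersion.lift hW.fromSpec n ?_), ?_⟩
      · rw [hW.range_fromSpec]; rintro _ ⟨v, rfl⟩; exact hn v
      · rw [Spec.map_preimage, IsOpenImmersion.lift_fac]
    obtain ⟨ψB, hψB⟩ := fac _ (Spec.map (CommRingCat.ofHom
      (algebraMap B (Localization.Away (pB f g π)))) ≫ hB) fun v => hWB _ fun h => v.2.ne_top
        (Ideal.eq_top_of_isUnit_mem _ h (IsLocalization.Away.algebraMap_isUnit _))
    obtain ⟨ψA, hψA⟩ := fac _ (Spec.map (CommRingCat.ofHom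
      (algebraMap A (Localization.Away (pA f g π)))) ≫ hA) fun v => hWA _ fun h => v.2.ne_top
        (Ideal.eq_top_of_isUnit_mem _ h (IsLocalization.Away.algebraMap_isUnit _))
    have hcompat : ∀ s, Compatible f g π (ψB s) (ψA s) := by
      intro s
      let lB : Localization.Away (pB f g π) →+* Localization.Away (f (pB f g π)) :=
        IsLocalization.Away.lift (pB f g π)
          (g := (algebraMap C (Localization.Away (f (pB f g π)))).comp f)
          (by show IsUnit (algebraMap C (Localization.Away (f (pB f g π))) (f (pB f g π)))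
              exact IsLocalization.Away.algebraMap_isUnit _)
      let lA : Localization.Away (pA f g π) →+* Localization.Away (f (pB f g π)) :=
        IsLocalization.Away.lift (pA f g π)
          (g := (algebraMap C (Localization.Away (f (pB f g π)))).comp g)
          (by
            have hu := IsLocalization.Away.algebraMap_isUnit (S := Localization.Away (f (pB f g π))) (f (pB f g π))
            simpa [fib_eq π] using hu)
      have e1 : ψB ≫ CommRingCat.ofHom lB = ψA ≫ CommRingCat.ofHom lA := by
        apply Spec.map_injective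
        rw [← cancel_mono hW.fromSpec, Spec.map_comp_assoc, Spec.map_comp_assoc, hψB, hψA,
          ← Spec.map_comp_assoc, ← Spec.map_comp_assoc, ← CommRingCat.ofHom_comp,
          ← CommRingCat.ofHom_comp, IsLocalization.Away.lift_comp, IsLocalization.Away.lift_comp,
          CommRingCat.ofHom_comp, CommRingCat.ofHom_comp, Spec.map_comp_assoc, Spec.map_comp_assoc, hC]
      exact congr($e1 s)
    choose z hzB hzA using fun s => exists_β_eq π (hcompat s)
    let ψ : Γ(X, W) →+* Localization.Away π :=
      { toFun := z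
        map_one' := β_injective π (by simp [hzB]) (by simp [hzA])
        map_mul' := fun x y => β_injective π (by simp [hzB]) (by simp [hzA])
        map_zero' := β_injective π (by simp [hzB]) (by simp [hzA])
        map_add' := fun x y => β_injective π (by simp [hzB]) (by simp [hzA]) }
    refine ⟨Spec.map (CommRingCat.ofHom ψ) ≫ hW.fromSpec, ?_, ?_⟩
    · rw [← Spec.map_comp_assoc, ← hψB]
      congr 2
      ext s; exact hzB s
    · rw [← Spec.map_comp_assoc, ← hψA]
      congr 2
      ext s; exact hzA s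
  choose m hmB hmA using hchart
  let 𝒰 := (Scheme.affineOpenCoverOfSpanRangeEqTop (R := CommRingCat.of (fib f g))
    (fun π : ι => π.1) hspan).openCover
  let m' : ∀ π : ι, 𝒰.X π ⟶ X := m
  have hcompat : ∀ π π' : ι, pullback.fst (𝒰.f π) (𝒰.f π') ≫ m' π =
      pullback.snd (𝒰.f π) (𝒰.f π') ≫ m' π' := by
    intro π π'
    let q := π.1 * π'.1
    let a12 : Spec (CommRingCat.of (Localization.Away q)) ⟶ Spec (CommRingCat.of (fib f g)) :=
      Spec.map (CommRingCat.ofHom (algebraMap _ (Localization.Away q)))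
    have hrange : ∀ x : fib f g, Set.range (Spec.map (CommRingCat.ofHom
        (algebraMap (fib f g) (Localization.Away x)))) =
          ((PrimeSpectrum.basicOpen x : TopologicalSpace.Opens (PrimeSpectrum (fib f g))) :
            Set (PrimeSpectrum (fib f g))) :=
      fun x => PrimeSpectrum.localization_away_comap_range (Localization.Away x) x
    have hra : Set.range (pullback.fst (𝒰.f π) (𝒰.f π') ≫ 𝒰.f π) = Set.range a12 := by
      rw [IsOpenImmersion.range_pullback_to_base_of_left]
      erw [hrange, hrange, hrange, PrimeSpectrum.basicOpen_mul]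
      rfl
    let e := IsOpenImmersion.isoOfRangeEq (pullback.fst (𝒰.f π) (𝒰.f π') ≫ 𝒰.f π) a12 hra
    have he : e.inv ≫ pullback.fst (𝒰.f π) (𝒰.f π') ≫ 𝒰.f π = a12 :=
      IsOpenImmersion.isoOfRangeEq_inv_fac _ _ hra
    rw [← cancel_epi e.inv]
    have hu1 : IsUnit (algebraMap (fib f g) (Localization.Away q) π.1) :=
      isUnit_of_dvd_unit (map_dvd _ (dvd_mul_right _ _)) (IsLocalization.Away.algebraMap_isUnit q)
    have hu2 : IsUnit (algebraMap (fib f g) (Localization.Away q) π'.1) :=
      isUnit_of_dvd_unit (map_dvd _ (dvd_mul_left _ _)) (IsLocalization.Away.algebraMap_isUnit q)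
    let l1 : Localization.Away π.1 →+* Localization.Away q := IsLocalization.Away.lift π.1 hu1
    let l2 : Localization.Away π'.1 →+* Localization.Away q := IsLocalization.Away.lift π'.1 hu2
    have h1 : e.inv ≫ pullback.fst (𝒰.f π) (𝒰.f π') = Spec.map (CommRingCat.ofHom l1) := by
      rw [← cancel_mono (𝒰.f π), Category.assoc, he]
      exact ((Spec.map_comp _ _).symm.trans (congrArg Spec.map
        (CommRingCat.hom_ext (IsLocalization.Away.lift_comp π.1 hu1)))).symm
    have h2 : e.inv ≫ pullback.snd (𝒰.f π) (𝒰.f π') = Spec.map (CommRingCat.ofHom l2) := by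
      rw [← cancel_mono (𝒰.f π'), Category.assoc, ← pullback.condition, he]
      exact ((Spec.map_comp _ _).symm.trans (congrArg Spec.map
        (CommRingCat.hom_ext (IsLocalization.Away.lift_comp π'.1 hu2)))).symm
    rw [reassoc_of% h1, reassoc_of% h2]
    obtain ⟨W, hW, hWB, hWA⟩ := π.2
    have eqB : ∀ (r : ι) (l : Localization.Away r.1 →+* Localization.Away q),
        l.comp (algebraMap _ (Localization.Away r.1)) = algebraMap (fib f g) (Localization.Away q) →
        IsUnit (algebraMap B (Localization.Away (pB f g q)) (pB f g r.1)) →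
        Spec.map (CommRingCat.ofHom (βB q)) ≫ Spec.map (CommRingCat.ofHom l) ≫ m' r =
          Spec.map (CommRingCat.ofHom (algebraMap B (Localization.Away (pB f g q)))) ≫ hB := by
      intro r l hl hu
      let t : Localization.Away (pB f g r.1) →+* Localization.Away (pB f g q) :=
        IsLocalization.Away.lift _ hu
      have et : (βB q).comp l = t.comp (βB r.1) := IsLocalization.ringHom_ext (Submonoid.powers r.1)
        (RingHom.ext fun x => by
          simp only [RingHom.comp_apply]
          rw [show l (algebraMap _ _ x) = algebraMap _ _ x from congr($hl x), βB_algebraMap,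
            βB_algebraMap]
          exact (IsLocalization.Away.lift_eq _ hu _).symm)
      rw [← Spec.map_comp_assoc, ← CommRingCat.ofHom_comp, et, CommRingCat.ofHom_comp,
        Spec.map_comp_assoc, hmB, ← Spec.map_comp_assoc, ← CommRingCat.ofHom_comp,
        IsLocalization.Away.lift_comp]
    have eqA : ∀ (r : ι) (l : Localization.Away r.1 →+* Localization.Away q),
        l.comp (algebraMap _ (Localization.Away r.1)) = algebraMap (fib f g) (Localization.Away q) →
        IsUnit (algebraMap A (Localization.Away (pA f g q)) (pA f g r.1)) →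
        Spec.map (CommRingCat.ofHom (βA q)) ≫ Spec.map (CommRingCat.ofHom l) ≫ m' r =
          Spec.map (CommRingCat.ofHom (algebraMap A (Localization.Away (pA f g q)))) ≫ hA := by
      intro r l hl hu
      let t : Localization.Away (pA f g r.1) →+* Localization.Away (pA f g q) :=
        IsLocalization.Away.lift _ hu
      have et : (βA q).comp l = t.comp (βA r.1) := IsLocalization.ringHom_ext (Submonoid.powers r.1)
        (RingHom.ext fun x => by
          simp only [RingHom.comp_apply]
          rw [show l (algebraMap _ _ x) = algebraMap _ _ x from congr($hl x), βA_algebraMap,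
            βA_algebraMap]
          exact (IsLocalization.Away.lift_eq _ hu _).symm)
      rw [← Spec.map_comp_assoc, ← CommRingCat.ofHom_comp, et, CommRingCat.ofHom_comp,
        Spec.map_comp_assoc, hmA, ← Spec.map_comp_assoc, ← CommRingCat.ofHom_comp,
        IsLocalization.Away.lift_comp]
    have huB : ∀ r : fib f g, r ∣ q → IsUnit (algebraMap B (Localization.Away (pB f g q)) (pB f g r)) :=
      fun r hr => isUnit_of_dvd_unit (map_dvd _ (map_dvd _ hr)) (IsLocalization.Away.algebraMap_isUnit _)
    have huA : ∀ r : fib f g, r ∣ q → IsUnit (algebraMap A (Localization.Away (pA f g q)) (pA f g r)) :=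
      fun r hr => isUnit_of_dvd_unit (map_dvd _ (map_dvd _ hr)) (IsLocalization.Away.algebraMap_isUnit _)
    have B1 := eqB π l1 (IsLocalization.Away.lift_comp _ hu1) (huB _ (dvd_mul_right _ _))
    have B2 := eqB π' l2 (IsLocalization.Away.lift_comp _ hu2) (huB _ (dvd_mul_left _ _))
    have A1 := eqA π l1 (IsLocalization.Away.lift_comp _ hu1) (huA _ (dvd_mul_right _ _))
    have A2 := eqA π' l2 (IsLocalization.Away.lift_comp _ hu2) (huA _ (dvd_mul_left _ _))
    have hWq : ∀ n : Spec (CommRingCat.of (Localization.Away q)) ⟶ X,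
        Spec.map (CommRingCat.ofHom (βB q)) ≫ n =
          Spec.map (CommRingCat.ofHom (algebraMap B (Localization.Away (pB f g q)))) ≫ hB →
        Spec.map (CommRingCat.ofHom (βA q)) ≫ n =
          Spec.map (CommRingCat.ofHom (algebraMap A (Localization.Away (pA f g q)))) ≫ hA →
        ∀ v, n v ∈ W := by
      intro n nB nA v
      rcases exists_point_away hf q v with ⟨b, rfl⟩ | ⟨a, rfl⟩
      · have h := congr($nB b)
        refine (congrArg (· ∈ W) h).mpr ?_
        exact hWB _ fun h => b.2.ne_top
          (Ideal.eq_top_of_isUnit_mem _ h (huB π.1 (dvd_mul_right _ _)))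
      · have h := congr($nA a)
        refine (congrArg (· ∈ W) h).mpr ?_
        exact hWA _ fun h => a.2.ne_top
          (Ideal.eq_top_of_isUnit_mem _ h (huA π.1 (dvd_mul_right _ _)))
    exact hom_ext_affine q hW _ _ (hWq _ B1 A1) (hWq _ B2 A2) (B1.trans B2.symm) (A1.trans A2.symm)
  refine ⟨𝒰.glueMorphisms m' hcompat, ?_, ?_⟩
  · refine Scheme.Cover.hom_ext (𝒰.pullback₁ (Spec.map (CommRingCat.ofHom (pB f g)))) _ _ fun π => ?_
    let o := Spec.map (CommRingCat.ofHom (algebraMap B (Localization.Away (pB f g π.1))))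
    have hr : Set.range (pullback.fst (Spec.map (CommRingCat.ofHom (pB f g))) (𝒰.f π)) = Set.range o := by
      rw [IsOpenImmersion.range_pullbackFst]
      show Spec.map (CommRingCat.ofHom (pB f g)) ⁻¹' Set.range (Spec.map (CommRingCat.ofHom
        (algebraMap (fib f g) (Localization.Away π.1)))) = _
      erw [range_away, range_away]
      rfl
    let e := IsOpenImmersion.isoOfRangeEq (pullback.fst (Spec.map (CommRingCat.ofHom (pB f g))) (𝒰.f π)) o hr
    rw [← cancel_epi e.inv]
    have he : e.inv ≫ pullback.fst (Spec.map (CommRingCat.ofHom (pB f g))) (𝒰.f π) = o :=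
      IsOpenImmersion.isoOfRangeEq_inv_fac _ _ hr
    have he2 : e.inv ≫ pullback.snd (Spec.map (CommRingCat.ofHom (pB f g))) (𝒰.f π) =
        Spec.map (CommRingCat.ofHom (βB π.1)) := by
      rw [← cancel_mono (𝒰.f π), Category.assoc, ← pullback.condition, reassoc_of% he]
      exact ((Spec.map_comp _ _).symm.trans ((congrArg Spec.map (CommRingCat.hom_ext
        (RingHom.ext fun x => βB_algebraMap π.1 x))).trans (Spec.map_comp _ _))).symm
    show e.inv ≫ pullback.fst _ _ ≫ Spec.map _ ≫ _ = e.inv ≫ pullback.fst _ _ ≫ hB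
    rw [pullback.condition_assoc, Scheme.Cover.ι_glueMorphisms, reassoc_of% he2, reassoc_of% he]
    exact hmB π
  · refine Scheme.Cover.hom_ext (𝒰.pullback₁ (Spec.map (CommRingCat.ofHom (pA f g)))) _ _ fun π => ?_
    let o := Spec.map (CommRingCat.ofHom (algebraMap A (Localization.Away (pA f g π.1))))
    have hr : Set.range (pullback.fst (Spec.map (CommRingCat.ofHom (pA f g))) (𝒰.f π)) = Set.range o := by
      rw [IsOpenImmersion.range_pullbackFst]
      show Spec.map (CommRingCat.ofHom (pA f g)) ⁻¹' Set.range (Spec.map (CommRingCat.ofHom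
        (algebraMap (fib f g) (Localization.Away π.1)))) = _
      erw [range_away, range_away]
      rfl
    let e := IsOpenImmersion.isoOfRangeEq (pullback.fst (Spec.map (CommRingCat.ofHom (pA f g))) (𝒰.f π)) o hr
    rw [← cancel_epi e.inv]
    have he : e.inv ≫ pullback.fst (Spec.map (CommRingCat.ofHom (pA f g))) (𝒰.f π) = o :=
      IsOpenImmersion.isoOfRangeEq_inv_fac _ _ hr
    have he2 : e.inv ≫ pullback.snd (Spec.map (CommRingCat.ofHom (pA f g))) (𝒰.f π) =
        Spec.map (CommRingCat.ofHom (βA π.1)) := by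
      rw [← cancel_mono (𝒰.f π), Category.assoc, ← pullback.condition, reassoc_of% he]
      exact ((Spec.map_comp _ _).symm.trans ((congrArg Spec.map (CommRingCat.hom_ext
        (RingHom.ext fun x => βA_algebraMap π.1 x))).trans (Spec.map_comp _ _))).symm
    show e.inv ≫ pullback.fst _ _ ≫ Spec.map _ ≫ _ = e.inv ≫ pullback.fst _ _ ≫ hA
    rw [pullback.condition_assoc, Scheme.Cover.ι_glueMorphisms, reassoc_of% he2, reassoc_of% he]
    exact hmA π

end

end Groth.Agent.QuillenG
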